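import Groth.Agent.L10.ModCompact.Coprod
import Groth.Agent.L10.HomSum.Main
import Groth.Agent.L10.ModAcyc
import Groth.Agent.L10.CechNerves
import Groth.Agent.L10.SiteRightDerived
import Mathlib.CategoryTheory.Abelian.GrothendieckAxioms.Basic

/-! Free modules on members of a Cartan collection of finite coverings are compact in `D⁺`. -/

set_option autoImplicit false
set_option backward.defeqAttrib.useBackward true
set_option backward.isDefEq.respectTransparency false
set_option backward.isDefEq.respectTransparency.types false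
set_option linter.style.haveILetI false

universe u

open CategoryTheory CategoryTheory.Limits CategoryTheory.Abelian Opposite CoproductsFromFiniteFiltered

noncomputable section

namespace Groth.L10.ModCompact.Cartan

open Groth.L15.LocPres Groth.L15.FPFree Groth.L15.PullFlat Groth.L15.FlatCrit Groth.L10.SiteCoh Groth.L10.Cech Groth.L10.ModCompact

variable {C : Type u} [SmallCategory C] [HasPullbacks C] {J : GrothendieckTopology C}
  {O : Sheaf J CommRingCat.{u}}

/-- Finitely coverable, cofinally. -/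
def FinCofinal (J : GrothendieckTopology C) (U : C) : Prop :=
  ∀ R ∈ J U, ∃ (K : Type u) (_ : Finite K) (W : K → C) (g : ∀ k, W k ⟶ U),
    (∀ k, R (g k)) ∧ Sieve.ofArrows W g ∈ J U

omit [HasPullbacks C] in
theorem exists_support {U : C} (hU : FinCofinal J U) {ι : Type u} (c : ι → ModSite.Mod O)
    (x : ModSite.sect (∐ c) U) : ∃ S : Finset ι, x = ∑ i ∈ S, ap (proj c i ≫ Sigma.ι c i) x := by
  classical
  obtain ⟨R, hR, hR'⟩ := Groth.L15.LocPres.exists_lift (isColimitFiniteSubproductsCocone c) x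
  obtain ⟨K, _, W, g, hgR, hcov⟩ := hU R hR
  haveI := Fintype.ofFinite K
  choose T y hy using fun k => hR' (g k) (hgR k)
  let S : Finset ι := Finset.univ.biUnion fun k => (T k).image fun a : Discrete ι => a.as
  refine ⟨S, Groth.L15.ExtSupp.sect_ext _ _ hcov _ _ fun V f hf => ?_⟩
  rw [Sieve.ofArrows, Sieve.generate_apply] at hf
  obtain ⟨_, e, _, ⟨k⟩, rfl⟩ := hf
  show rs _ (e ≫ g k) x = rs _ (e ≫ g k) _
  rw [← rs_rs, ← rs_rs]
  refine congrArg _ ?_
  rw [map_sum]
  simp only [rs_ap]
  obtain ⟨m, hm, hmι⟩ : ∃ m : (liftToFinsetObj (Discrete.functor c)).obj (T k) ⟶ ∐ c,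
      ap m (y k) = rs (∐ c) (g k) x ∧ ∀ a : T k, Sigma.ι _ a ≫ m = Sigma.ι c (a : Discrete ι).as :=
    ⟨(finiteSubcoproductsCocone c).ι.app (T k), hy k, fun a => by simp [finiteSubcoproductsCocone]⟩
  rw [← hm]
  simp only [← ap_comp]
  have hsum : ∀ (s : Finset ι) (f : ι → ((liftToFinsetObj (Discrete.functor c)).obj (T k) ⟶ ∐ c)),
      ap (∑ i ∈ s, f i) (y k) = ∑ i ∈ s, ap (f i) (y k) := by
    intro s f
    induction s using Finset.induction_on with
    | empty => rw [Finset.sum_empty, Finset.sum_empty]; rfl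
    | insert a s ha ih =>
      rw [Finset.sum_insert ha, Finset.sum_insert ha, ← ih]
      rfl
  rw [← hsum]
  refine congrArg (fun m => ap m (y k)) ?_
  refine Sigma.hom_ext _ _ fun a => ?_
  simp only [Preadditive.comp_sum, hmι, reassoc_of% hmι]
  have ha : (a : Discrete ι).as ∈ S :=
    Finset.mem_biUnion.2 ⟨k, Finset.mem_univ _, Finset.mem_image_of_mem _ a.2⟩
  rw [Finset.sum_eq_single (a : Discrete ι).as (fun j _ hj => by rw [reassoc_of% (ι_proj_ne c (Ne.symm hj)), zero_comp])
    (fun h => absurd ha h)]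
  rw [reassoc_of% (ι_proj_self c (a : Discrete ι).as)]

omit [HasPullbacks C] in
theorem proj_ι_eq_zero_of_not_mem {U : C} {ι : Type u} (c : ι → ModSite.Mod O)
    (x : ModSite.sect (∐ c) U) (S : Finset ι) (hS : x = ∑ i ∈ S, ap (proj c i ≫ Sigma.ι c i) x)
    (j : ι) (hj : j ∉ S) : ap (proj c j ≫ Sigma.ι c j) x = 0 := by
  rw [hS, map_sum]
  refine Finset.sum_eq_zero fun i hi => ?_
  rw [← ap_comp, Category.assoc, reassoc_of% (ι_proj_ne c (i := i) (j := j) fun h => hj (h ▸ hi)),
    zero_comp, comp_zero]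
  rfl

variable {B : Set C} {Cov : ∀ (U : C) (ι : Type u), (ι → Over U) → Prop}

/-- The hypotheses on the collection. -/
structure Hyp (J : GrothendieckTopology C) (B : Set C)
    (Cov : ∀ (U : C) (ι : Type u), (ι → Over U) → Prop) : Prop where
  h1 : ∀ (U : C) (ι : Type u) (Y : ι → Over U), Cov U ι Y → Finite ι ∧ U ∈ B ∧
      Sieve.ofArrows (fun i => (Y i).left) (fun i => (Y i).hom) ∈ J U ∧
      ∀ (p : ℕ) (a : Fin (p + 1) → ι), (∏ᶜ fun k => Y (a k)).left ∈ B
  h2 : ∀ U ∈ B, ∀ T ∈ J U, ∃ (ι : Type u) (Y : ι → Over U), Cov U ι Y ∧ ∀ i, T.arrows (Y i).hom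

theorem Hyp.finCofinal (h : Hyp J B Cov) {U : C} (hU : U ∈ B) : FinCofinal J U := fun R hR => by
  obtain ⟨ι, Y, hY, hYR⟩ := h.h2 U hU R hR
  exact ⟨ι, (h.h1 U ι Y hY).1, fun i => (Y i).left, fun i => (Y i).hom, hYR, (h.h1 U ι Y hY).2.2.1⟩

variable (Cov) in
/-- Modules whose Čech complexes for the collection are exact in positive degrees. -/
def CechOk (M : ModSite.Mod O) : Prop :=
  ∀ (U : C) (ι : Type u) (Y : ι → Over U), Cov U ι Y → ∀ p : ℕ,
    (Cech.cx (Over.forget U) Y (ModSite.toAb M).obj).ExactAt (p + 1)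

omit [HasPullbacks C] in
theorem subsingleton_fs_of_totallyAcyclic (F : Sheaf J AddCommGrpCat.{u})
    (hF : CohCx.IsTotallyAcyclic F) (W : C) (q : ℕ) : Subsingleton (Ext (fs J W) F (q + 1)) := by
  have h := hF ((presheafToSheaf J (Type u)).obj (yoneda.obj W)) q
  haveI : Subsingleton ((extFunctor (C := Sheaf J AddCommGrpCat.{u}) (q + 1)).obj
      (op ((presheafToSheaf J AddCommGrpCat.{u}).obj
        (((presheafToSheaf J (Type u)).obj (yoneda.obj W)).obj ⋙ AddCommGrpCat.free.{u}))) |>.obj F) := h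
  exact (((extFunctor (C := Sheaf J AddCommGrpCat.{u}) (q + 1)).mapIso
    (freeSheafifyIso (J := J) (yoneda.obj W)).op).app F).addCommGroupIsoToAddEquiv.toEquiv.subsingleton

theorem cechOk_injective (hB : Hyp J B Cov) (I : ModSite.Mod O) [Injective I] : CechOk Cov I :=
  fun U ι Y hY p => by
    have hT := InjTA.isTotallyAcyclic O I
    obtain ⟨e⟩ := nonempty_homology_addEquiv (isNerve_over Y) (hB.h1 U ι Y hY).2.2.1 (ModSite.toAb I)
      (fun n a q => subsingleton_fs_of_totallyAcyclic _ hT _ q) (p + 1)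
    rw [HomologicalComplex.exactAt_iff_isZero_homology]
    have := subsingleton_fs_of_totallyAcyclic _ hT U p
    haveI := e.toEquiv.subsingleton
    exact AddCommGrpCat.isZero_of_subsingleton _

theorem surjective_sect {S : ShortComplex (ModSite.Mod O)} (hS : S.ShortExact) (hB : Hyp J B Cov)
    (h1 : CechOk Cov S.X₁) {V : C} (hV : V ∈ B) (s : ModSite.sect S.X₃ V) :
    ∃ t : ModSite.sect S.X₂ V, ap S.g t = s :=
  surjective_sections_of_refinement (ModAcyc.shortExact_toSheaf O hS) V (fun T hT => by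
    obtain ⟨ι, Y, hC, hT'⟩ := hB.h2 V hV T hT
    exact ⟨ι, Y, hT', (hB.h1 V ι Y hC).2.2.1, h1 V ι Y hC 0⟩) s

theorem cechOk_X₃ {S : ShortComplex (ModSite.Mod O)} (hS : S.ShortExact) (hB : Hyp J B Cov)
    (h1 : CechOk Cov S.X₁) (h2 : CechOk Cov S.X₂) : CechOk Cov S.X₃ := fun U ι Y hY p =>
  exactAt_X₃ (π := Over.forget U) (Y := Y) (ModAcyc.shortExact_toSheaf O hS)
    (fun n a s => surjective_sect hS hB h1 (V := (tup Y a).left) ((hB.h1 U ι Y hY).2.2.2 n a) s) (p + 1)
    (h2 U ι Y hY p) (h1 U ι Y hY (p + 1))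

omit [HasPullbacks C] in
/-- The canonical injective hull sequence. -/
theorem hull_shortExact [EnoughInjectives (ModSite.Mod O)] (M : ModSite.Mod O) :
    (ShortComplex.mk (Injective.ι M) (cokernel.π _) (cokernel.condition _)).ShortExact :=
  { exact := ShortComplex.exact_cokernel _ }

theorem subsingleton_ext [EnoughInjectives (ModSite.Mod O)] [HasExt.{u} (ModSite.Mod O)]
    (hB : Hyp J B Cov) (M : ModSite.Mod O) (hM : CechOk Cov M) {U : C} (hU : U ∈ B) (p : ℕ) :
    Subsingleton (Ext.{u} (fOn O U) M (p + 1)) := by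
  induction p generalizing M with
  | zero =>
    refine subsingleton_of_forall_eq 0 fun x => ?_
    have hS := hull_shortExact M
    obtain ⟨y, rfl⟩ := Ext.covariant_sequence_exact₁ _ hS x (Ext.eq_zero_of_injective _) (zero_add 1)
    obtain ⟨s, rfl⟩ := (Ext.mk₀_bijective _ _).2 y
    obtain ⟨t, ht⟩ := surjective_sect hS hB hM hU (secA s)
    obtain rfl : secA.symm t ≫ cokernel.π (Injective.ι M) = s :=
      secA.injective (by rw [secA_comp, AddEquiv.apply_symm_apply]; exact ht)
    rw [← Ext.mk₀_comp_mk₀]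
    refine (Ext.comp_assoc_of_second_deg_zero _ _ _ _).trans ?_
    exact (congrArg (fun r => (Ext.mk₀ _).comp r (zero_add 1)) hS.comp_extClass).trans (Ext.comp_zero _ _ _ _ _)
  | succ p ih =>
    refine subsingleton_of_forall_eq 0 fun x => ?_
    have hS := hull_shortExact M
    obtain ⟨y, rfl⟩ := Ext.covariant_sequence_exact₁ _ hS x (Ext.eq_zero_of_injective _) (n₀ := p + 1) rfl
    have h3 := cechOk_X₃ hS hB hM (cechOk_injective hB (Injective.under M))
    have := ih _ h3
    rw [Subsingleton.elim y 0, Ext.zero_comp]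

variable {ι : Type u}

theorem cechOk_coproduct (hB : Hyp J B Cov) (c : ι → ModSite.Mod O) (hc : ∀ i, CechOk Cov (c i)) :
    CechOk Cov (∐ c) := by
  classical
  intro U κ Y hY p
  haveI := (hB.h1 U κ Y hY).1
  rw [HomologicalComplex.exactAt_iff' _ p (p + 1) (p + 2) (by simp) (by simp), ShortComplex.ab_exact_iff]
  intro (x : (Cech.cx (Over.forget U) Y (ModSite.toAb (∐ c)).obj).X (p + 1)) hx
  change (Cech.cx (Over.forget U) Y (ModSite.toAb (∐ c)).obj).d (p + 1) (p + 2) x = 0 at hx
  haveI := Fintype.ofFinite κ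
  choose T hT using fun a : Fin (p + 1 + 1) → κ => exists_support
    (hB.finCofinal ((hB.h1 U κ Y hY).2.2.2 _ a)) c (co a x : ModSite.sect (∐ c) _)
  let S : Finset ι := Finset.univ.biUnion T
  let φ := fun {M N : ModSite.Mod O} (f : M ⟶ N) =>
    (Cech.cxMap (π := Over.forget U) (Y := Y) ((SheafOfModules.toSheaf.{u} (ModSite.ringSh O)).map f).hom)
  have hxS : x = ∑ i ∈ S, (φ (proj c i ≫ Sigma.ι c i)).f (p + 1) x := co_ext fun a => by
    rw [map_sum]
    simp only [φ, co_cxMap]
    refine (hT a).trans (Finset.sum_subset (fun i hi => Finset.mem_biUnion.2 ⟨a, Finset.mem_univ _, hi⟩) fun i _ hi => ?_)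
    exact proj_ι_eq_zero_of_not_mem c _ (T a) (hT a) i hi
  have hex : ∀ i, ∃ y : (Cech.cx (Over.forget U) Y (ModSite.toAb (c i)).obj).X p,
      (Cech.cx (Over.forget U) Y (ModSite.toAb (c i)).obj).d p (p + 1) y = (φ (proj c i)).f (p + 1) x := fun i => by
    have h := hc i U κ Y hY p
    rw [HomologicalComplex.exactAt_iff' _ p (p + 1) (p + 2) (by simp) (by simp), ShortComplex.ab_exact_iff] at h
    exact h _ ((comm_apply _ (p + 1) (p + 2) x).trans (by rw [hx, map_zero]))
  choose y hy using hex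
  refine ⟨∑ i ∈ S, (φ (Sigma.ι c i)).f p (y i), ?_⟩
  change (Cech.cx (Over.forget U) Y (ModSite.toAb (∐ c)).obj).d p (p + 1) _ = x
  rw [map_sum]
  refine Eq.trans (Finset.sum_congr rfl fun i _ => ?_) hxS.symm
  refine (comm_apply _ p (p + 1) (y i)).trans ?_
  rw [hy i]
  refine co_ext fun a => ?_
  simp only [φ, co_cxMap]
  rfl

/-- Preservation of sums in all degrees. -/
theorem exists_ext_support [EnoughInjectives (ModSite.Mod O)] [HasExt.{u} (ModSite.Mod O)]
    [HasExactColimitsOfShape (Discrete ι) (ModSite.Mod O)]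
    (hB : Hyp J B Cov) {U : C} (hU : U ∈ B) (p : ℕ) (c : ι → ModSite.Mod O)
    (x : Ext.{u} (fOn O U) (∐ c) p) :
    ∃ S : Finset ι, x = ∑ i ∈ S, x.comp (Ext.mk₀ (proj c i ≫ Sigma.ι c i)) (add_zero p) := by
  classical
  induction p generalizing c with
  | zero =>
    obtain ⟨a, rfl⟩ := (Ext.mk₀_bijective _ _).2 x
    obtain ⟨S, hS⟩ := exists_support (hB.finCofinal hU) c (secA a)
    refine ⟨S, ?_⟩
    have h : a = ∑ i ∈ S, a ≫ proj c i ≫ Sigma.ι c i := secA.injective (by
      rw [map_sum]
      exact hS.trans (Finset.sum_congr rfl fun i _ => (secA_comp a _).symm))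
    conv_lhs => rw [h, ← Ext.addEquiv₀_symm_apply, map_sum]
    exact Finset.sum_congr rfl fun i _ => (Ext.mk₀_comp_mk₀ _ _).symm
  | succ p ih =>
    let I : ι → ModSite.Mod O := fun i => Injective.under (c i)
    let f : ∀ i, c i ⟶ I i := fun i => Injective.ι (c i)
    let Q : ι → ModSite.Mod O := fun i => cokernel (f i)
    let g : ∀ i, I i ⟶ Q i := fun i => cokernel.π (f i)
    let T : ShortComplex (ModSite.Mod O) := ShortComplex.mk (Limits.Sigma.map f) (Limits.Sigma.map g)
      (Sigma.hom_ext _ _ fun i => by simp [g])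
    have hexact : T.Exact := by
      refine T.exact_of_g_is_cokernel (CokernelCofork.IsColimit.ofπ _ _
        (fun {W} k hk => Sigma.desc fun i => cokernel.desc (f i) (Sigma.ι I i ≫ k) (by
          have h := congrArg (fun q => Sigma.ι c i ≫ q) hk
          simpa [T] using h))
        (fun {W} k hk => Sigma.hom_ext _ _ fun i => by simp [T, g])
        (fun {W} k hk m hm => Sigma.hom_ext _ _ fun i => by
          refine coequalizer.hom_ext ?_
          simp [← hm, T, g]))
    have hmono : Mono (Limits.Sigma.map f) := by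
      haveI : Mono (Discrete.natTrans (fun i => f i.as) : Discrete.functor c ⟶ Discrete.functor I) := by
        haveI : ∀ i : Discrete ι, Mono ((Discrete.natTrans (fun i => f i.as) :
          Discrete.functor c ⟶ Discrete.functor I).app i) := fun i => inferInstanceAs (Mono (Injective.ι _))
        exact NatTrans.mono_of_mono_app _
      exact inferInstanceAs (Mono (colim.map _))
    have hepi : Epi (Limits.Sigma.map g) := inferInstance
    have hT : T.ShortExact := { exact := hexact, mono_f := hmono, epi_g := hepi }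
    haveI := subsingleton_ext hB _ (cechOk_coproduct hB I fun i => cechOk_injective hB (I i)) hU p
    obtain ⟨y, rfl⟩ := postcomp_extClass_surjective (fOn O U) hT p x
    obtain ⟨S, hS⟩ := ih Q y
    refine ⟨S, ?_⟩
    let τ : ∀ i, T ⟶ T := fun i => ShortComplex.homMk (proj c i ≫ Sigma.ι c i) (proj I i ≫ Sigma.ι I i)
      (proj Q i ≫ Sigma.ι Q i) (Sigma.hom_ext _ _ fun j => by
        by_cases h : j = i
        · subst h; simp [T, reassoc_of% (ι_proj_self c j), reassoc_of% (ι_proj_self I j)]
        · simp [T, reassoc_of% (ι_proj_ne c h), reassoc_of% (ι_proj_ne I h)])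
      (Sigma.hom_ext _ _ fun j => by
        by_cases h : j = i
        · subst h; simp [T, reassoc_of% (ι_proj_self Q j), reassoc_of% (ι_proj_self I j)]
        · simp [T, reassoc_of% (ι_proj_ne Q h), reassoc_of% (ι_proj_ne I h)])
    have key : ∀ i, (hT.extClass.postcomp (fOn O U) rfl y).comp (Ext.mk₀ (τ i).τ₁) (add_zero (p + 1)) =
        hT.extClass.postcomp (fOn O U) rfl (y.comp (Ext.mk₀ (τ i).τ₃) (add_zero p)) := fun i => by
      change (y.comp hT.extClass rfl).comp (Ext.mk₀ (τ i).τ₁) (add_zero (p + 1)) =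
        (y.comp (Ext.mk₀ (τ i).τ₃) (add_zero p)).comp hT.extClass rfl
      rw [Ext.comp_assoc_of_third_deg_zero, Ext.comp_assoc_of_second_deg_zero]
      exact congrArg (fun r => y.comp r _) (ShortComplex.ShortExact.extClass_naturality hT hT (τ i))
    conv_lhs => rw [hS, map_sum]
    exact Finset.sum_congr rfl fun i _ => (key i).symm

/-- Free modules on members of the collection are compact among uniformly bounded below families. -/
theorem bijective_homSum [HasDerivedCategory.{u} (ModSite.Mod O)] (hB : Hyp J B Cov) {U : C} (hU : U ∈ B)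
    {I : Type u} (M : I → DerivedCategory (ModSite.Mod O)) [HasCoproduct M]
    (a : ℤ) (hM : ∀ i, (M i).IsGE a) :
    Function.Bijective (CohDer.homSumToHomCoprod
      ((DerivedCategory.singleFunctor (ModSite.Mod O) 0).obj (fOn O U)) M) := by
  haveI : IsGrothendieckAbelian.{u} (ModSite.Mod O) := Groth.L10.shMod_isGrothendieckAbelian _
  haveI : HasFiniteBiproducts (ModSite.Mod O) := Abelian.hasFiniteBiproducts
  haveI : AB4OfSize.{u} (ModSite.Mod O) := AB4.of_AB5 _
  refine HomSum.bijective_of_isGE (fOn O U) (fun p => ?_) M a hM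
  refine preservesColimitsOfShape_of_finite_support _ fun c x => ?_
  exact exists_ext_support hB hU p c x

end Groth.L10.ModCompact.Cartan
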