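import Groth.Agent.L15.FPFree.Basic
import Groth.Agent.L10.SheafModGroth
import Mathlib.CategoryTheory.Limits.Constructions.Filtered
import Mathlib.CategoryTheory.Preadditive.Yoneda.Basic
import Mathlib.CategoryTheory.Limits.Preserves.Shapes.Products
import Mathlib.Algebra.BigOperators.Finprod
import Mathlib.Algebra.Category.Grp.Colimits

/-! # Maps out of quasi-compact free modules commute with direct sums -/

universe v u

open CategoryTheory CategoryTheory.Limits Opposite CoproductsFromFiniteFiltered

set_option backward.defeqAttrib.useBackward true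
set_option backward.isDefEq.respectTransparency false
set_option backward.isDefEq.respectTransparency.types false
set_option linter.style.haveILetI false

noncomputable section

namespace Groth.L10.ModCompact

section Generic

variable {A : Type*} [Category A] [Preadditive A] {ι : Type v}

open scoped Classical in
/-- Projections of a sum. -/
def proj (c : ι → A) [HasCoproduct c] (j : ι) : (∐ c) ⟶ c j :=
  Sigma.desc fun i => if h : i = j then eqToHom (by rw [h]) else 0

theorem ι_proj_self (c : ι → A) [HasCoproduct c] (j : ι) : Sigma.ι c j ≫ proj c j = 𝟙 _ := by simp [proj]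

theorem ι_proj_ne (c : ι → A) [HasCoproduct c] {i j : ι} (h : i ≠ j) : Sigma.ι c i ≫ proj c j = 0 := by
  simp [proj, h]

/-- An additive functor to groups preserves a sum when every element is supported on finitely many summands. -/
theorem preservesColimitsOfShape_of_finite_support (E : A ⥤ AddCommGrpCat.{v}) [E.Additive]
    [HasColimitsOfShape (Discrete ι) A]
    (h : ∀ (c : ι → A) (x : E.obj (∐ c)), ∃ S : Finset ι, x = ∑ i ∈ S, E.map (proj c i ≫ Sigma.ι c i) x) :
    PreservesColimitsOfShape (Discrete ι) E := by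
  classical
  refine ⟨fun {K} => ?_⟩
  suffices h : PreservesColimit (Discrete.functor fun i => K.obj ⟨i⟩) E by
    haveI : PreservesColimit (Discrete.functor (K.obj ∘ Discrete.mk)) E := h
    exact preservesColimit_of_iso_diagram E (Discrete.natIsoFunctor (F := K)).symm
  let c : ι → A := fun i => K.obj ⟨i⟩
  have hzero : ∀ (x : E.obj (∐ c)) (S : Finset ι), x = ∑ i ∈ S, E.map (proj c i ≫ Sigma.ι c i) x →
      ∀ j ∉ S, E.map (proj c j) x = 0 := fun x S hx j hj => by
    rw [hx, map_sum]
    refine Finset.sum_eq_zero fun i hi => ?_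
    rw [← ConcreteCategory.comp_apply, ← E.map_comp, Category.assoc,
      ι_proj_ne c (i := i) (j := j) (fun h' => hj (h' ▸ hi)), comp_zero, E.map_zero]
    rfl
  have hfin : ∀ (x : E.obj (∐ c)) (B : AddCommGrpCat.{v}) (g : ∀ i, E.obj (c i) ⟶ B),
      (Function.support fun i => g i (E.map (proj c i) x)).Finite := fun x B g => by
    obtain ⟨S, hS⟩ := h c x
    refine S.finite_toSet.subset fun i hi => ?_
    by_contra hiS
    exact hi (by show g i _ = 0; rw [hzero x S hS i hiS, map_zero])
  refine preservesColimit_of_preserves_colimit_cocone (coproductIsCoproduct c) ((isColimitMapCoconeCofanMkEquiv E _ _).2 ?_)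
  refine Cofan.IsColimit.mk _ (fun s => AddCommGrpCat.ofHom (AddMonoidHom.mk' (fun x => ∑ᶠ i, s.inj i (E.map (proj c i) x)) ?_))
    (fun s i => ?_) (fun s m hm => ?_)
  · intro x y
    simp only [map_add]
    exact finsum_add_distrib (hfin x _ s.inj) (hfin y _ s.inj)
  · refine AddCommGrpCat.hom_ext (AddMonoidHom.ext fun y => ?_)
    show (∑ᶠ j, s.inj j (E.map (proj c j) (E.map (Sigma.ι c i) y))) = s.inj i y
    rw [finsum_eq_single _ i fun j hj => by
      rw [← ConcreteCategory.comp_apply (E.map (Sigma.ι c i)) (E.map (proj c j)), ← E.map_comp,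
        ι_proj_ne c (Ne.symm hj), E.map_zero]
      exact map_zero (s.inj j).hom]
    rw [← ConcreteCategory.comp_apply (E.map (Sigma.ι c i)) (E.map (proj c i)), ← E.map_comp, ι_proj_self, E.map_id]
    rfl
  · refine AddCommGrpCat.hom_ext (AddMonoidHom.ext fun x => ?_)
    show m x = ∑ᶠ j, s.inj j (E.map (proj c j) x)
    obtain ⟨S, hS⟩ := h c x
    rw [finsum_eq_sum_of_support_subset _ (s := S) (fun i hi => by
      by_contra hiS
      exact hi (by show s.inj i _ = 0; rw [hzero x S hS i hiS, map_zero]))]
    conv_lhs => rw [hS, map_sum]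
    refine Finset.sum_congr rfl fun i _ => ?_
    rw [← hm i, E.map_comp]
    rfl

/-- A functor to groups all of whose values vanish preserves sums. -/
theorem preservesColimitsOfShape_of_subsingleton (E : A ⥤ AddCommGrpCat.{v}) [E.Additive]
    [HasColimitsOfShape (Discrete ι) A] (h : ∀ X, Subsingleton (E.obj X)) :
    PreservesColimitsOfShape (Discrete ι) E :=
  preservesColimitsOfShape_of_finite_support E fun c x => ⟨∅, @Subsingleton.elim _ (h _) _ _⟩

end Generic

variable {C : Type u} [SmallCategory C] {J : GrothendieckTopology C} {O : Sheaf J CommRingCat.{u}}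

open Groth.L15.LocPres Groth.L15.FPFree Groth.L15.PullFlat Groth.L15.FlatCrit

/-- A section of a sum over a quasi-compact object is supported on finitely many summands. -/
theorem exists_support {U : C} (hU : QcObj J U) {ι : Type u} (c : ι → ModSite.Mod O)
    (x : ModSite.sect (∐ c) U) : ∃ S : Finset ι, x = ∑ i ∈ S, ap (proj c i ≫ Sigma.ι c i) x := by
  classical
  obtain ⟨R, hR, hR'⟩ := Groth.L15.LocPres.exists_lift (isColimitFiniteSubproductsCocone c) x
  obtain ⟨K, _, W, g, -, hgR, hcov⟩ := exists_finite_cover (B := Set.univ)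
    (fun X => ⟨PUnit.{u + 1}, fun _ => X, fun _ => 𝟙 X,
      J.superset_covering (fun V f _ => by
        rw [Sieve.ofArrows, Sieve.generate_apply]
        exact ⟨X, f, 𝟙 X, ⟨PUnit.unit⟩, Category.comp_id f⟩) (J.top_mem X), fun _ => trivial⟩) hU R hR
  haveI := Fintype.ofFinite K
  choose T y hy using fun k => hR' (g k) (hgR k)
  let S : Finset ι := Finset.univ.biUnion fun k => (T k).image fun a : Discrete ι => a.as
  refine ⟨S, Groth.L15.ExtSupp.sect_ext _ _ hcov _ _ fun V f hf => ?_⟩
  rw [Sieve.ofArrows, Sieve.generate_apply] at hf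
  obtain ⟨_, e, _, ⟨k⟩, rfl⟩ := hf
  show rs _ (e ≫ g k) x = rs _ (e ≫ g k) _
  rw [← rs_rs, ← rs_rs]
  refine congrArg _ ?_
  rw [map_sum]
  simp only [rs_ap]
  obtain ⟨m, hm, hmι⟩ : ∃ m : (liftToFinsetObj (Discrete.functor c)).obj (T k) ⟶ ∐ c,
      ap m (y k) = rs (∐ c) (g k) x ∧ ∀ a : T k, Sigma.ι _ a ≫ m = Sigma.ι c (a : Discrete ι).as :=
    ⟨(finiteSubcoproductsCocone c).ι.app (T k), hy k, fun a => by simp [finiteSubcoproductsCocone]⟩
  rw [← hm]
  simp only [← ap_comp]
  have hsum : ∀ (s : Finset ι) (f : ι → ((liftToFinsetObj (Discrete.functor c)).obj (T k) ⟶ ∐ c)),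
      ap (∑ i ∈ s, f i) (y k) = ∑ i ∈ s, ap (f i) (y k) := by
    intro s f
    induction s using Finset.induction_on with
    | empty => rw [Finset.sum_empty, Finset.sum_empty]; rfl
    | insert a s ha ih =>
      rw [Finset.sum_insert ha, Finset.sum_insert ha, ← ih]
      rfl
  rw [← hsum]
  refine congrArg (fun m => ap m (y k)) ?_
  refine Sigma.hom_ext _ _ fun a => ?_
  simp only [Preadditive.comp_sum, hmι, reassoc_of% hmι]
  have ha : (a : Discrete ι).as ∈ S :=
    Finset.mem_biUnion.2 ⟨k, Finset.mem_univ _, Finset.mem_image_of_mem _ a.2⟩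
  rw [Finset.sum_eq_single (a : Discrete ι).as (fun j _ hj => by rw [reassoc_of% (ι_proj_ne c (Ne.symm hj)), zero_comp])
    (fun h => absurd ha h)]
  rw [reassoc_of% (ι_proj_self c (a : Discrete ι).as)]

/-- Maps out of a free module on a quasi-compact object commute with sums. -/
theorem preservesSums_hom {U : C} (hU : QcObj J U) (ι : Type u) :
    PreservesColimitsOfShape (Discrete ι) (preadditiveCoyoneda.obj (op (ModSite.freeOn O U))) :=
  preservesColimitsOfShape_of_finite_support _ fun c a => by
    obtain ⟨S, hS⟩ := exists_support hU c (secA a)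
    refine ⟨S, secA.injective (hS.trans ?_)⟩
    rw [map_sum]
    exact Finset.sum_congr rfl fun i _ => (secA_comp (show fOn O U ⟶ ∐ c from a) _).symm

end Groth.L10.ModCompact
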