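import Groth.Agent.L10.ModCompact.Coprod
import Mathlib.Topology.Sheaves.Sheaf
import Mathlib.Topology.Compactness.Compact

/-! # Compact opens are quasi-compact objects -/

universe u

open CategoryTheory CategoryTheory.Limits Opposite TopologicalSpace

set_option backward.defeqAttrib.useBackward true
set_option backward.isDefEq.respectTransparency false

namespace Groth.L10.ModCompact

/-- A compact open subset is a quasi-compact object of the topos. -/
theorem qcObj_of_isCompact {X : TopCat.{u}} (U : Opens X) (hU : IsCompact (U : Set X)) :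
    Groth.L15.FPFree.QcObj (Opens.grothendieckTopology X) U := by
  classical
  let J := Opens.grothendieckTopology X
  let η : yoneda.obj U ⟶ ((presheafToSheaf J (Type u)).obj (yoneda.obj U)).obj := toSheafify J (yoneda.obj U)
  intro I L f hf
  obtain ⟨S, hS, hS'⟩ := hf U (η.app (op U) (𝟙 U))
  have hx : ∀ x : (U : Set X), ∃ (V : Opens X) (g : V ⟶ U), S g ∧ (x : X) ∈ V := fun x => hS x.1 x.2
  choose V g hg hxV using hx
  obtain ⟨T, hT⟩ := hU.elim_finite_subcover (fun x => (V x : Set X)) (fun x => (V x).isOpen)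
    (fun x h => Set.mem_iUnion.2 ⟨⟨x, h⟩, hxV ⟨x, h⟩⟩)
  choose i y hy using fun x => hS' (V x) (g x) (hg x)
  refine ⟨T.image i, fun W s => ?_⟩
  let R : Sieve W :=
    { arrows := fun W' r => ∃ (j : I) (_ : j ∈ T.image i) (z : (L j).obj.obj (op W')),
        (f j).hom.app (op W') z = ((presheafToSheaf J (Type u)).obj (yoneda.obj U)).obj.map r.op s
      downward_closed := fun {W' W''} r ⟨j, hj, z, hz⟩ q => ⟨j, hj, (L j).obj.map q.op z, by
        refine (NatTrans.naturality_apply (f j).hom q.op z).trans ?_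
        refine (congrArg _ hz).trans ?_
        rw [op_comp, FunctorToTypes.map_comp_apply]⟩ }
  refine ⟨R, fun x hxW => ?_, fun W' r ⟨j, hj, z, hz⟩ => ⟨⟨j, hj⟩, z, hz⟩⟩
  obtain ⟨W₁, r, ⟨h, hh⟩, hx₁⟩ := (Presheaf.imageSieve_mem J η (U := op W) s) x hxW
  obtain ⟨k, hk, hxk⟩ := Set.mem_iUnion₂.1 (hT (leOfHom h hx₁))
  have hxm : x ∈ W₁ ⊓ V k := ⟨hx₁, hxk⟩
  let a : W₁ ⊓ V k ⟶ W₁ := homOfLE inf_le_left
  let b : W₁ ⊓ V k ⟶ V k := homOfLE inf_le_right
  refine ⟨W₁ ⊓ V k, a ≫ r, ⟨i k, Finset.mem_image_of_mem _ hk, (L (i k)).obj.map b.op (y k), ?_⟩, hxm⟩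
  rw [NatTrans.naturality_apply (f (i k)).hom b.op (y k), hy k]
  rw [← NatTrans.naturality_apply η (g k).op, ← NatTrans.naturality_apply η b.op]
  rw [op_comp, FunctorToTypes.map_comp_apply, ← hh, ← NatTrans.naturality_apply η a.op]
  rfl

end Groth.L10.ModCompact
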