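import Groth.Agent.L10.ModCompact.Coprod
import Groth.Agent.L10.ModAcyc
import Groth.Agent.L10.HomSum.Main
import Groth.Prelude.Def_CohSite
import Mathlib.CategoryTheory.Sites.EpiMono
import Mathlib.CategoryTheory.Abelian.GrothendieckCategory.HasExt
import Mathlib.Algebra.Homology.DerivedCategory.Ext.EnoughProjectives

/-! # Free modules on quasi-compact weakly contractible objects -/

universe u

open CategoryTheory CategoryTheory.Limits CategoryTheory.Abelian Opposite

set_option backward.defeqAttrib.useBackward true
set_option backward.isDefEq.respectTransparency false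
set_option backward.isDefEq.respectTransparency.types false
set_option linter.style.haveILetI false
set_option synthInstance.maxHeartbeats 200000

noncomputable section

namespace Groth.L10.ModCompact

open Groth.L15.FPFree Groth.L15.LocPres

variable {C : Type u} [SmallCategory C] {J : GrothendieckTopology C} {O : Sheaf J CommRingCat.{u}}

/-- An epimorphism of modules is surjective on sections over a weakly contractible object. -/
theorem surjective_ap {U : C} (hU : CohSite.IsWeaklyContractible J U) {M N : ModSite.Mod O} (e : M ⟶ N) [Epi e] :
    Function.Surjective (fun x : ModSite.sect M U => Groth.L15.LocPres.ap e x) := by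
  haveI := ModAcyc.epi_toSheaf O e
  haveI : Balanced (Sheaf J AddCommGrpCat.{u}) := inferInstance
  haveI : Sheaf.IsLocallySurjective ((SheafOfModules.toSheaf.{u} (ModSite.ringSh O)).map e) :=
    (Sheaf.isLocallySurjective_iff_epi' (J := J) (A := AddCommGrpCat.{u}) _).2 inferInstance
  exact hU _ _ ((sheafCompose J (forget AddCommGrpCat.{u})).map
    ((SheafOfModules.toSheaf.{u} (ModSite.ringSh O)).map e)) inferInstance

/-- The free module on a weakly contractible object is projective. -/
theorem projective_freeOn {U : C} (hU : CohSite.IsWeaklyContractible J U) : Projective (fOn O U) where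
  factors {E X} f e _ := by
    obtain ⟨s, hs⟩ := surjective_ap hU e (secA f)
    exact ⟨secA.symm s, secA.injective (by rw [secA_comp, AddEquiv.apply_symm_apply]; exact hs)⟩

/-- The free module on a quasi-compact weakly contractible object is compact. -/
theorem isCompactObject_freeOn [HasDerivedCategory.{u} (ModSite.Mod O)]
    [HasCoproducts.{u} (DerivedCategory (ModSite.Mod O))] {U : C} (hqc : QcObj J U)
    (hwc : CohSite.IsWeaklyContractible J U) :
    CohDer.IsCompactObject ((DerivedCategory.singleFunctor (ModSite.Mod O) 0).obj (fOn O U)) := by
  haveI : IsGrothendieckAbelian.{u} (ModSite.Mod O) := Groth.L10.shMod_isGrothendieckAbelian _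
  haveI : Projective (fOn O U) := projective_freeOn hwc
  have hv : ∀ (F : ModSite.Mod O) (p : ℕ), Subsingleton (Ext.{u} (fOn O U) F (p + 1)) := fun F p =>
    Ext.subsingleton_of_projective _ _ p
  refine HomSum.isCompactObject (fOn O U) (fun p ι => ?_) 0 (fun F p hp => ?_)
  · obtain _ | p := p
    · haveI := preservesSums_hom (O := O) hqc ι
      exact preservesColimitsOfShape_of_natIso (NatIso.ofComponents (F := preadditiveCoyoneda.obj (op (fOn O U)))
        (G := extFunctorObj (fOn O U) 0) (fun X => AddEquiv.toAddCommGrpIso Ext.addEquiv₀.symm) fun {X Y} φ =>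
          AddCommGrpCat.hom_ext (AddMonoidHom.ext fun a => (Ext.mk₀_comp_mk₀ a φ).symm))
    · exact preservesColimitsOfShape_of_subsingleton _ fun X => hv X p
  · obtain ⟨q, rfl⟩ : ∃ q, p = q + 1 := ⟨p - 1, by omega⟩
    exact hv F q

end Groth.L10.ModCompact
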